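import Cfsg.Agent.H148.Large
import Cfsg.Agent.H148.G24B
import Cfsg.Agent.H148.D42End
import Cfsg.Agent.H134.Sq.Base_m3
import Cfsg.Agent.S2457
import Cfsg.Agent.S2458
import Cfsg.Prelude.Def_LieChev
import Cfsg.Prelude.Def_LieTwisted
import Cfsg.Prelude.Def_Sz
import Cfsg.Agent.FastGrp
import Cfsg.Agent.Prune
set_option linter.all false

section
prune_inst 0x7ffffffdffbaffffdfff7e7ffefffffffbffffffffdffbcbbfecadefbfdf6b1efde5fbad9feb7aff0eeb62be30f87bd3ffffffffee6ffc7ffffdfdf45ffbffcffdf7bf8971df8cbe0fbc0fff03f077ce7f3fffffffffffffffffffffffffffbeffffffffffff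

-- part: H538/Ore/Hex
section
prune_inst 0x1000000000000010000000000000000000000000002000000000000000400000080000000000000000000000000000000000000000000000000000000000000000000000000000000000000000000000000000000000000000000000000000000
set_option linter.all false
open scoped Cfsg.Agent.FastGrp

/-!
# Ore and four involutions for groups of type `G₂` and `³D₄` (helper538)

The classes found by helper148 are strongly real (inverted by the involution `pa w * n3`).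
-/

set_option autoImplicit false

namespace Cfsg.Agent.H538.Ore

open Cfsg.Agent.SplitTwo Cfsg.Agent.TitsThree.RankTwoZ Cfsg.Agent.Lib.SL2Mat Cfsg.Agent.Cit.HexBase
  Cfsg.Agent.Cit.HexBase.HexGrp Cfsg.Agent.H148.SLTwo Cfsg.Agent.H148.Hex Cfsg.Agent.H777.Ore

universe u

section

variable {G : Type*} [Group G]

/-- `x` is inverted by an element with square one -/
def SR (x : G) : Prop := ∃ y : G, y * y = 1 ∧ y * x * y⁻¹ = x⁻¹

theorem SR.split {x : G} (h : SR x) : ∃ s t : G, s * s = 1 ∧ t * t = 1 ∧ x = s * t := by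
  obtain ⟨y, h1, h2⟩ := h
  have hy : y⁻¹ = y := inv_eq_of_mul_eq_one_left h1
  refine ⟨x * y, y, ?_, h1, by rw [mul_assoc, h1, mul_one]⟩
  have : x * y * (x * y) = x * (y * x * y⁻¹) * (y * y) := by group
  rw [this, h2, h1]
  group

theorem isC_of_pr {x g : G} (hx : ∃ y, y * x * y⁻¹ = x⁻¹) (h : ∃ u v, g = (u * x * u⁻¹) * (v * x * v⁻¹)) : IsC g := by
  obtain ⟨y, hy⟩ := hx
  obtain ⟨u, v, rfl⟩ := h
  -- `v x v⁻¹ = (v y⁻¹) x⁻¹ (v y⁻¹)⁻¹`
  refine ⟨u * x * u⁻¹, v * y⁻¹ * u⁻¹, ?_⟩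
  have e : x = y⁻¹ * x⁻¹ * y := by rw [← hy]; group
  calc u * x * u⁻¹ * (v * x * v⁻¹) = u * x * u⁻¹ * (v * (y⁻¹ * x⁻¹ * y) * v⁻¹) := by rw [← e]
    _ = _ := by group

theorem i4_of_pr {x g : G} (hx : SR x) (h : ∃ u v, g = (u * x * u⁻¹) * (v * x * v⁻¹)) : I4 g := by
  obtain ⟨s, t, hs, ht, rfl⟩ := hx.split
  obtain ⟨u, v, rfl⟩ := h
  have key : ∀ (w r : G), r * r = 1 → w * r * w⁻¹ * (w * r * w⁻¹) = 1 := by
    intro w r hr
    calc w * r * w⁻¹ * (w * r * w⁻¹) = w * (r * r) * w⁻¹ := by group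
      _ = 1 := by rw [hr]; group
  exact ⟨u * s * u⁻¹, u * t * u⁻¹, v * s * v⁻¹, v * t * v⁻¹, key u s hs, key u t ht, key v s hs, key v t ht, by group⟩

/-- the conclusion for a strongly real class whose square covers the group minus one -/
structure Th (G : Type*) [Group G] : Prop where
  ex : ∃ x : G, SR x ∧ ∀ g : G, g ≠ 1 → ∃ u v, g = (u * x * u⁻¹) * (v * x * v⁻¹)

theorem Th.allC (h : Th G) : AllC G := by
  obtain ⟨x, ⟨y, -, hy⟩, h⟩ := h.ex
  intro g
  by_cases hg : g = 1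
  · rw [hg]
    exact isC_one
  · exact isC_of_pr ⟨y, hy⟩ (h g hg)

theorem Th.inv4 (h : Th G) : Inv4 G := by
  obtain ⟨x, hx, h⟩ := h.ex
  intro g
  by_cases hg : g = 1
  · subst hg
    exact ⟨1, 1, 1, 1, by simp⟩
  · exact i4_of_pr hx (h g hg)

theorem Th.congr {H : Type*} [Group H] (e : G ≃* H) (h : Th G) : Th H := by
  obtain ⟨x, ⟨y, h1, h2⟩, h⟩ := h.ex
  refine ⟨e x, ⟨e y, by rw [← map_mul, h1, map_one], by rw [← map_inv, ← map_mul, ← map_mul, h2, map_inv]⟩, ?_⟩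
  intro g hg
  obtain ⟨u, v, huv⟩ := h (e.symm g) (fun h0 => hg (by rw [← e.apply_symm_apply g, h0, map_one]))
  refine ⟨e u, e v, ?_⟩
  rw [← e.apply_symm_apply g, huv]
  simp only [map_mul, map_inv]

end

variable {E : Type*} [Field E] {σ : E ≃+* E} {L : Type u} [Group L] (c : HexGrp σ L)

theorem n3_sq : n3 c * n3 c = c.pa (dg (-1) neg_one_ne) := by
  have e1 : n3 c * n3 c = p3 c (dg (-1) neg_one_ne) := by
    unfold n3
    rw [← map_mul]
    congr 1
    refine ext_ent ?_ ?_ ?_ ?_ <;> simp [ent_mul]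
  rw [e1]
  have h1 := act_p3_dg c (-1) neg_one_ne
  have h2 := c.act_a (-1) neg_one_ne
  refine h1.unique (h2.congr rfl ?_ ?_)
  · rw [nrm_neg, nrm_one]
    change (-1 : E)⁻¹ = _
    norm_num
  · change (-1 : E) ^ 2 = 1
    norm_num

/-- the inverting involution -/
def yy0 : L := c.pa (wm 1 one_ne_zero) * n3 c

theorem yy0_sq : yy0 c * yy0 c = 1 := by
  have h2 := comm_pa_n3 c (wm 1 one_ne_zero)
  have h3 : n3 c * c.pa (wm 1 one_ne_zero) = c.pa (wm 1 one_ne_zero) * n3 c := mul_inv_eq_iff_eq_mul.1 h2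
  unfold yy0
  calc c.pa (wm 1 one_ne_zero) * n3 c * (c.pa (wm 1 one_ne_zero) * n3 c)
      = c.pa (wm 1 one_ne_zero) * (n3 c * c.pa (wm 1 one_ne_zero)) * n3 c := by group
    _ = (c.pa (wm 1 one_ne_zero) * c.pa (wm 1 one_ne_zero)) * (n3 c * n3 c) := by rw [h3]; group
    _ = 1 := by
        rw [n3_sq, ← map_mul, ← map_mul]
        rw [← map_one c.pa]
        congr 1
        refine ext_ent ?_ ?_ ?_ ?_ <;> simp [ent_mul]

/-- even type: `pa m * s` with `s` of weight one and `w m w⁻¹ = m⁻¹` -/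
theorem sr_one {s : L} {c1 : E} (hs : c.Act s c1 1) {m : SL2 ↥(fx σ)}
    (hm : wm 1 one_ne_zero * m * (wm 1 one_ne_zero)⁻¹ = m⁻¹) : SR (c.pa m * s) := by
  refine ⟨yy0 c, yy0_sq c, ?_⟩
  have h1 : n3 c * s * (n3 c)⁻¹ = s⁻¹ := (act_n3_one hs).unique (hs.inv.congr rfl rfl inv_one)
  have h2 := comm_pa_n3 c m
  have hs' := hs.inv.congr rfl rfl inv_one
  have h3 : ∀ y : SL2 ↥(fx σ), s⁻¹ * c.pa y = c.pa y * s⁻¹ := fun y => comm_pa_of_one c hs' y
  unfold yy0
  calc c.pa (wm 1 one_ne_zero) * n3 c * (c.pa m * s) * (c.pa (wm 1 one_ne_zero) * n3 c)⁻¹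
      = c.pa (wm 1 one_ne_zero) * ((n3 c * c.pa m * (n3 c)⁻¹) * (n3 c * s * (n3 c)⁻¹)) * (c.pa (wm 1 one_ne_zero))⁻¹ := by
        group
    _ = c.pa (wm 1 one_ne_zero) * c.pa m * (s⁻¹ * c.pa (wm 1 one_ne_zero)⁻¹) := by rw [h1, h2, map_inv]; group
    _ = c.pa (wm 1 one_ne_zero * m * (wm 1 one_ne_zero)⁻¹) * s⁻¹ := by rw [h3, map_mul, map_mul]; group
    _ = (c.pa m * s)⁻¹ := by rw [hm, ← h3, mul_inv_rev, map_inv]

/-- odd type: `pa m * z` -/
theorem sr_z (t : ↥(fx σ)) : SR (c.pa (_root_.Cfsg.Agent.Lib.SL2Mat.mk 0 1 (-1) t (by ring)) * c.z) := by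
  refine ⟨yy0 c, yy0_sq c, ?_⟩
  obtain ⟨m, hm⟩ : ∃ m : SL2 ↥(fx σ), m = _root_.Cfsg.Agent.Lib.SL2Mat.mk 0 1 (-1) t (by ring) := ⟨_, rfl⟩
  rw [← hm]
  have h1 : n3 c * c.z * (n3 c)⁻¹ = c.pa (dg (-1) neg_one_ne) * c.z := by
    have h2 := Act.n3 c.act_z
    have h3 := (c.act_a (-1) neg_one_ne).mul c.act_z
    refine h2.unique (h3.congr rfl ?_ ?_)
    · change (-1 : E)⁻¹ * 1 = (-1 * 1)⁻¹
      norm_num
    · change (-1 : E) ^ 2 * -1 = -1
      norm_num
  have h2 := comm_pa_n3 c m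
  have hz : c.z⁻¹ = c.z := inv_eq_of_mul_eq_one_left c.z_sq
  have e1 : yy0 c * (c.pa m * c.z) * (yy0 c)⁻¹ =
      c.pa (wm 1 one_ne_zero) * (c.pa (m * dg (-1) neg_one_ne) * c.z) * (c.pa (wm 1 one_ne_zero))⁻¹ := by
    unfold yy0
    calc c.pa (wm 1 one_ne_zero) * n3 c * (c.pa m * c.z) * (c.pa (wm 1 one_ne_zero) * n3 c)⁻¹
        = c.pa (wm 1 one_ne_zero) * ((n3 c * c.pa m * (n3 c)⁻¹) * (n3 c * c.z * (n3 c)⁻¹)) *
          (c.pa (wm 1 one_ne_zero))⁻¹ := by group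
      _ = _ := by rw [h1, h2, map_mul]; group
  rw [e1, pa_z_conj]
  have e2 : (c.pa m * c.z)⁻¹ = c.pa (conjGL (dgl (-1) neg_one_ne) m⁻¹) * c.z := by
    rw [← c_z_pa, map_inv, mul_inv_rev, hz]
    calc c.z * (c.pa m)⁻¹ = c.z * (c.pa m)⁻¹ * (c.z⁻¹ * c.z) := by group
      _ = _ := by rw [hz]; group
  rw [e2]
  (with_reducible congr 2)
  rw [conjGL_dgl_ent, conjGL_dgl_ent, hm]
  refine ext_ent ?_ ?_ ?_ ?_ <;> simp [ent_mul, ent_inv]


include c in
/-- the class of helper148's `odd_main` is strongly real -/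
theorem odd_th [Finite L] [Finite E] (h2 : (2 : E) ≠ 0) : Th L := by
  have := Fintype.ofFinite ↥(fx σ)
  have h2' : (2 : ↥(fx σ)) ≠ 0 := fun h => h2 (congrArg Subtype.val h)
  obtain ⟨t, ht, ht4⟩ := exists_t0 h2'
  obtain ⟨x, hx⟩ : ∃ x, x = c.pa (_root_.Cfsg.Agent.Lib.SL2Mat.mk 0 1 (-1) t (by ring)) * c.z := ⟨_, rfl⟩
  suffices h : ∀ g : L, g ≠ 1 → Pr x g from ⟨⟨x, hx ▸ sr_z c t, h⟩⟩
  · intro g hg
    obtain ⟨y, v, hv, l, u, hu, e⟩ := exists_weak_gauss (c := c) (z0 := -1) neg_one_ne (fun h => h2' (by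
      linear_combination -h)) hg
    obtain ⟨m, n, hn1, hn2⟩ := exists_pair h2' t l
    obtain ⟨v', hv', u', hu', e'⟩ := gauss_conj_pa c hv hu e m
    have ht' : t ≠ 0 ∧ -t ≠ 0 := ⟨ht, neg_ne_zero.2 ht⟩
    have hn3 : tau (conjGL (dgl (-1) neg_one_ne) n⁻¹) = t ∨ tau (conjGL (dgl (-1) neg_one_ne) n⁻¹) = -t := by
      have e3 : tau (conjGL (dgl (-1) neg_one_ne) n⁻¹) = -tau n := by
        unfold tau
        rw [conjGL_dgl_ent, mk_00, mk_11, ent_inv, mk_00, mk_11]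
        ring
      rw [e3]
      rcases hn1 with h | h <;> rw [h]
      · exact Or.inr rfl
      · exact Or.inl (neg_neg t)
    have hne : ∀ {m : SL2 ↥(fx σ)}, tau m = t ∨ tau m = -t → tau m ≠ 0 := by
      rintro m (h | h) <;> rw [h]
      · exact ht
      · exact neg_ne_zero.2 ht
    refine Pr.cell (x1 := c.pa (m * l * m⁻¹ * n) * c.z) (x2 := c.pa (conjGL (dgl (-1) neg_one_ne) n⁻¹) * c.z)
      (Q := Sg c.X Qb) (Q' := Sg c.X Qb') (y := c.pa m * y) (v := v') (u := u')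
      (by rw [hx]; exact cj_pa_z' c hn2 ht4) (by rw [hx]; exact cj_pa_z' c hn3 ht4)
      (fpf_z' c h2 (hne hn2)) (fpf_z c h2 (hne hn3)) hv' hu' ?_
    rw [e']
    congr 2
    calc c.pa (m * l * m⁻¹) = c.pa (m * l * m⁻¹ * n) * c.pa n⁻¹ := by rw [← map_mul, mul_inv_cancel_right]
      _ = c.pa (m * l * m⁻¹ * n) * (c.z * c.z) * c.pa n⁻¹ := by rw [c.z_sq, mul_one]
      _ = c.pa (m * l * m⁻¹ * n) * c.z * ((c.z * c.pa n⁻¹ * c.z⁻¹) * c.z) := by group
      _ = _ := by rw [c_z_pa]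


/-- the class of helper148's `even_main` is strongly real -/
theorem even_th [Finite L] [Finite E] [CharP E 2] {e : ↥(fx σ)} (he : e ≠ 0) (he1 : e ≠ 1) {s : L} {c1 : E}
    (hs : c.Act s c1 1) (h1 : c1 ≠ e) (h1' : c1 * e ≠ 1) (h2 : shp σ c1 ≠ 1) (h3 : nrm σ c1 ≠ e)
    (h3' : nrm σ c1 * e ≠ 1) : Th L := by
  have : CharP ↥(fx σ) 2 := (Subfield.subtype (fx σ)).charP (Subfield.subtype (fx σ)).injective 2
  have h20 : (2 : ↥(fx σ)) = 0 := by exact_mod_cast CharP.cast_eq_zero ↥(fx σ) 2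
  have hee : e ≠ e⁻¹ := by
    intro h
    apply he1
    have h4 : e * e = 1 := by
      calc e * e = e * e⁻¹ := by rw [← h]
        _ = 1 := mul_inv_cancel₀ he
    have : (e - 1) ^ 2 = 0 := by linear_combination h4 + (1 - e) * h20
    have := pow_eq_zero_iff (by norm_num) |>.1 this
    linear_combination this
  refine ⟨⟨c.pa (dg e he) * s, sr_one c hs ?_, fun g hg => ?_⟩⟩
  · refine ext_ent ?_ ?_ ?_ ?_ <;> simp [ent_mul, ent_inv]
  obtain ⟨y, v, hv, l, u, hu, e0⟩ := exists_weak_gauss (c := c) he he1 hg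
  obtain ⟨m, n, hn1, hn2⟩ := exists_pair_even e he l
  obtain ⟨v', hv', u', hu', e'⟩ := gauss_conj_pa c hv hu e0 m
  have hn3 : tr n⁻¹ = e + e⁻¹ := by rw [tr_inv, hn1]
  have hinv := hs.inv.congr rfl rfl inv_one
  have hne := hs.ne1
  have heE := coe_ne' he
  have hN := nrm_ne (σ := σ) hne
  refine Pr.cell (x1 := c.pa (m * l * m⁻¹ * n) * s) (x2 := c.pa n⁻¹ * s⁻¹)
    (Q := Sg c.X Qb) (Q' := Sg c.X Qb') (y := c.pa m * y) (v := v') (u := u')
    (cj_split c he hee hs hn2) ((cj_split c he hee hs hn3).trans (cj_inv_n3 c hs _))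
    (fpf_one' c e he hs hn2 h1 h1' h2 h3 h3') ?_ hv' hu' ?_
  · refine fpf_one c e he hinv hn3 (fun h => h1' (by rw [← h, mul_inv_cancel₀ hne]))
      (fun h => h1 (by field_simp at h; exact h.symm))
      (fun h => h2 (by
        have h5 : shp σ c1 * shp σ c1⁻¹ = 1 := by rw [← shp_mul, mul_inv_cancel₀ hne]; unfold shp; simp
        rw [h, mul_one] at h5
        exact h5))
      (fun h => h3' (by rw [← h, nrm_inv, mul_inv_cancel₀ hN]))
      (fun h => h3 (by rw [nrm_inv] at h; field_simp at h; exact h.symm))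
  · rw [e']
    congr 2
    have h5 := comm_pa_of_one c hs n⁻¹
    calc c.pa (m * l * m⁻¹) = c.pa (m * l * m⁻¹ * n) * c.pa n⁻¹ := by rw [← map_mul, mul_inv_cancel_right]
      _ = c.pa (m * l * m⁻¹ * n) * (c.pa n⁻¹ * s) * s⁻¹ := by group
      _ = _ := by rw [← h5]; group


variable {c} in
theorem _root_.Cfsg.Agent.H148.Hex.Dat.sr [CharP E 2] {τ : ↥(fx σ)} {s0 : L} {c1 : E} (D : Dat c τ s0 c1)
    [CharP ↥(fx σ) 2] : SR (c.pa (comp ↥(fx σ) τ) * s0) := by
  refine sr_one c D.act ?_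
  have h20 : (2 : ↥(fx σ)) = 0 := by exact_mod_cast CharP.cast_eq_zero ↥(fx σ) 2
  have hn : ∀ x : ↥(fx σ), -x = x := fun x => by linear_combination -x * h20
  unfold comp
  refine ext_ent ?_ ?_ ?_ ?_ <;> simp [ent_mul, ent_inv, hn]

theorem g2_even_th {F : Type u} [Field F] [Fintype F] [CharP F 2] (h8 : 5 ≤ Fintype.card F) :
    Th ↥(Cfsg.Lie.chevG2.group F) := by
  have hcard : 7 ≤ Fintype.card F - 1 ∧ (Fintype.card F - 1) % 2 = 1 := by
    have := (inferInstance : Fact (Nat.Prime 2))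
    obtain ⟨n, -, hn⟩ := FiniteField.card F 2
    have h3 : 3 ≤ (n : ℕ) := by
      by_contra hlt
      have h4 : (n : ℕ) ≤ 2 := by omega
      have : Fintype.card F ≤ 2 ^ 2 := by rw [hn]; exact Nat.pow_le_pow_right (by norm_num) h4
      omega
    have h4 : 2 ^ 3 ≤ Fintype.card F := by rw [hn]; exact Nat.pow_le_pow_right (by norm_num) h3
    have h5 := two_dvd_card F
    omega
  obtain ⟨ζ, hζ, hord⟩ := exists_prim F
  have key : ∀ n : ℕ, 0 < n → (n ≤ 6 ∨ n = 8 ∨ n = 10) → ζ ^ n ≠ 1 := by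
    intro n h0 hn h1
    have hd := hord n h1
    rcases hn with hn | rfl | rfl
    · have := Nat.le_of_dvd h0 hd
      omega
    · have := Nat.le_of_dvd h0 hd
      obtain ⟨k, hk⟩ := hd
      have : Fintype.card F - 1 = 7 := by omega
      rw [this] at hk
      omega
    · have := Nat.le_of_dvd h0 hd
      obtain ⟨k, hk⟩ := hd
      have : Fintype.card F - 1 = 7 ∨ Fintype.card F - 1 = 9 := by omega
      rcases this with h | h <;> rw [h] at hk <;> omega
  have hne1 : ζ ≠ 1 := fun h => key 1 (by norm_num) (by norm_num) (by rw [h, one_pow])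
  let c := g2' F ⟨ζ, hζ, hne1⟩
  let e : ↥(fx (RingEquiv.refl F)) := ⟨ζ, rfl⟩
  have he : e ≠ 0 := fun h => hζ (congrArg Subtype.val h)
  have he1 : e ≠ 1 := fun h => hne1 (congrArg Subtype.val h)
  have hs := act_p3_dg c (ζ ^ 3) (pow_ne_zero 3 hζ)
  have hnrm : nrm (RingEquiv.refl F) (ζ ^ 3) = ζ ^ 9 := by rw [nrm_of_fix rfl]; ring
  have e1 : nrm (RingEquiv.refl F) (ζ ^ 3) / (ζ ^ 3) ^ 2 = ζ ^ 3 := by
    rw [hnrm]
    field_simp
  rw [e1] at hs
  refine even_th c he he1 hs ?_ ?_ ?_ ?_ ?_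
  · intro h
    refine key 2 (by norm_num) (by norm_num) ?_
    have h2 : ζ ^ 3 = ζ := h
    have h3 : ζ * (ζ ^ 2 - 1) = 0 := by linear_combination h2
    have := (mul_eq_zero.1 h3).resolve_left hζ
    linear_combination this
  · intro h
    refine key 4 (by norm_num) (by norm_num) ?_
    have h2 : ζ ^ 3 * ζ = 1 := h
    linear_combination h2
  · intro h
    refine key 6 (by norm_num) (by norm_num) ?_
    have h2 : (ζ ^ 3) * (ζ ^ 3) = 1 := h
    linear_combination h2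
  · rw [hnrm]
    intro h
    refine key 8 (by norm_num) (by norm_num) ?_
    have h2 : ζ ^ 9 = ζ := h
    have h3 : ζ * (ζ ^ 8 - 1) = 0 := by linear_combination h2
    have := (mul_eq_zero.1 h3).resolve_left hζ
    linear_combination this
  · rw [hnrm]
    intro h
    refine key 10 (by norm_num) (by norm_num) ?_
    have h2 : ζ ^ 9 * ζ = 1 := h
    linear_combination h2


variable {K : Type u} [Field K] [Fintype K] {q : ℕ}

theorem d4_even_th [CharP K 2] (hK : Fintype.card K = q ^ 3) (h2 : 3 ≤ q) :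
    Th ↥(Cfsg.Lie.twistedD4 K q) := by
  obtain ⟨σ, hσ, ⟨c⟩⟩ := Cfsg.Agent.Cit.HexD4.exists_d4 (K := K) (q := q) hK
  have h20 : (2 : K) = 0 := by exact_mod_cast CharP.cast_eq_zero K 2
  obtain ⟨ζ, hζ, hord⟩ := exists_prim K
  rw [hK] at hord
  have hq3 : q ^ 3 - 1 = (q - 1) * (q ^ 2 + q + 1) := by
    obtain ⟨m, rfl⟩ : ∃ m, q = m + 1 := ⟨q - 1, by omega⟩
    have : (m + 1) ^ 3 = m * ((m + 1) ^ 2 + (m + 1) + 1) + 1 := by ring
    rw [this, Nat.add_sub_cancel, Nat.add_sub_cancel]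
  have hfull : ζ ^ (q ^ 3 - 1) = 1 := by rw [← hK]; exact FiniteField.pow_card_sub_one_eq_one ζ hζ
  -- `e = ζ ^ (q² + q + 1)`
  have he1 : ζ ^ (q ^ 2 + q + 1) ≠ 1 := by
    intro h
    have h3 := Nat.le_of_dvd (by positivity) (hord _ h)
    rw [hq3] at h3
    have h4 : 2 * (q ^ 2 + q + 1) ≤ (q - 1) * (q ^ 2 + q + 1) := Nat.mul_le_mul_right _ (by omega)
    have : 0 < q ^ 2 + q + 1 := by positivity
    omega
  have hfe : σ (ζ ^ (q ^ 2 + q + 1)) = ζ ^ (q ^ 2 + q + 1) := by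
    rw [hσ, ← pow_mul, show (q ^ 2 + q + 1) * q = (q - 1) * (q ^ 2 + q + 1) + (q ^ 2 + q + 1) by
      obtain ⟨m, rfl⟩ : ∃ m, q = m + 1 := ⟨q - 1, by omega⟩
      rw [Nat.add_sub_cancel]
      ring, pow_add, ← hq3, hfull, one_mul]
  -- `z = ζ ^ (q - 1)`
  obtain ⟨z, hz⟩ : ∃ z, z = ζ ^ (q - 1) := ⟨_, rfl⟩
  have hz0 : z ≠ 0 := by rw [hz]; exact pow_ne_zero _ hζ
  have hnz : nrm σ z = 1 := by
    have : nrm σ z = z ^ (q ^ 2 + q + 1) := by
      unfold nrm
      rw [hσ, hσ, ← pow_mul]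
      ring
    rw [this, hz, ← pow_mul, ← hq3, hfull]
  have hzf : σ z ≠ z := by
    intro h
    rw [hσ] at h
    have h3 : z ^ (q - 1) = 1 := by
      have h4 : z * (z ^ (q - 1) - 1) = 0 := by
        have : z * z ^ (q - 1) = z ^ q := by
          rw [← pow_succ']
          congr 1
          omega
        linear_combination this + h
      have := (mul_eq_zero.1 h4).resolve_left hz0
      linear_combination this
    rw [hz, ← pow_mul] at h3
    have h5 := Nat.le_of_dvd (Nat.mul_pos (by omega) (by omega)) (hord _ h3)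
    rw [hq3] at h5
    have h6 := Nat.le_of_mul_le_mul_left h5 (by omega)
    have : 0 < q ^ 2 := by positivity
    omega
  have hs := act_p3_dg c z hz0
  rw [hnz] at hs
  have hsq : ∀ {y : K}, σ (y ^ 2) = y ^ 2 → σ y = y := by
    intro y hy
    rw [map_pow] at hy
    have : (σ y - y) ^ 2 = 0 := by linear_combination hy + (y ^ 2 - σ y * y) * h20
    have := pow_eq_zero_iff (by norm_num) |>.1 this
    linear_combination this
  have hc1 : σ (1 / z ^ 2) ≠ 1 / z ^ 2 := by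
    intro h
    apply hzf
    apply hsq
    rw [map_div₀, map_one] at h
    have h1 : σ (z ^ 2) ≠ 0 := (map_ne_zero σ).2 (pow_ne_zero 2 hz0)
    field_simp at h
    exact h.symm
  have hnc : nrm σ (1 / z ^ 2) = 1 := by
    rw [one_div, nrm_inv, show z ^ 2 = z * z from pow_two z, nrm_mul, hnz, one_mul, inv_one]
  let e : ↥(fx σ) := ⟨ζ ^ (q ^ 2 + q + 1), hfe⟩
  have he0 : e ≠ 0 := fun h => pow_ne_zero _ hζ (congrArg Subtype.val h)
  have hee1 : e ≠ 1 := fun h => he1 (congrArg Subtype.val h)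
  have heE : (e : K) ≠ 0 := pow_ne_zero _ hζ
  refine even_th c he0 hee1 hs ?_ ?_ ?_ ?_ ?_
  · intro h
    apply hc1
    rw [h]
    exact e.2
  · intro h
    apply hc1
    have h3 : 1 / z ^ 2 = (e : K)⁻¹ := by
      field_simp at h ⊢
      exact h
    rw [h3]
    exact inv_fix e.2
  · intro h
    have h3 : nrm σ (1 / z ^ 2) = 1 / z ^ 2 * shp σ (1 / z ^ 2) := by unfold nrm shp; ring
    rw [h, hnc, mul_one] at h3
    apply hc1
    rw [← h3, map_one]
  · rw [hnc]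
    intro h
    exact he1 h.symm
  · rw [hnc, one_mul]
    exact he1


theorem g2_four_th {F : Type u} [Field F] [Fintype F] [CharP F 2] (h4 : Fintype.card F = 4) :
    Th ↥(Cfsg.Lie.chevG2.group F) := by
  obtain ⟨w, h0, h1⟩ := exists_ne (F := F) (by omega)
  let c := g2' F ⟨w, h0, h1⟩
  have : CharP ↥(fx (RingEquiv.refl F)) 2 := charP_fx
  have hw := prim4 h4 h0 h1
  have h20 := two_eq_zero F
  have hs := act_p3_dg c w h0
  have e1 : nrm (RingEquiv.refl F) w / w ^ 2 = w := by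
    rw [nrm_of_fix rfl]
    field_simp
  rw [e1] at hs
  have D : Dat c (⟨w, rfl⟩ : ↥(fx (RingEquiv.refl F))) _ w :=
    { irr := by
        intro x hx
        have hx' : x ^ 2 + w * x + 1 = 0 := hx
        by_cases hx0 : x = 0
        · rw [hx0] at hx'
          simp at hx'
        · rcases cases4 h4 h0 h1 hx0 with h | h | h
          · rw [h] at hx'
            exact h0 (by linear_combination hx' - h20)
          · rw [h] at hx'
            have : (1 : F) = 0 := by linear_combination hx' - w ^ 2 * h20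
            exact one_ne_zero this
          · have h5 : w * (x ^ 2 + w * x + 1) = 0 := by rw [hx', mul_zero]
            have h6 : x = 0 := by
              linear_combination h5 - (x + w) * h - h20 * w
            exact hx0 h6
      nrm1 := by
        intro s hs0
        rw [nrm_of_fix rfl]
        have h := FiniteField.pow_card_sub_one_eq_one s hs0
        rw [h4] at h
        exact h
      act := hs
      ne1 := h1 }
  exact ⟨⟨_, D.sr, fun g _ => main4 D (fun _ => rfl) h4 g⟩⟩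


theorem d4_two_th {K : Type u} [Field K] [Fintype K] [CharP K 2] (hK : Fintype.card K = 2 ^ 3) :
    Th ↥(Cfsg.Lie.twistedD4 K 2) := by
  obtain ⟨σ, hσ, ⟨c⟩⟩ := Cfsg.Agent.Cit.HexD4.exists_d4 (K := K) (q := 2) hK
  have h8 : Fintype.card K = 8 := by rw [hK]; norm_num
  obtain ⟨z, h0, h1⟩ := exists_ne (F := K) (by omega)
  have : CharP ↥(fx σ) 2 := charP_fx
  have h20 := two_eq_zero K
  have h7 : ∀ x : K, x ≠ 0 → x ^ 7 = 1 := by
    intro x hx
    have := FiniteField.pow_card_sub_one_eq_one x hx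
    rwa [h8] at this
  have hn : ∀ s : K, s ≠ 0 → nrm σ s = 1 := by
    intro s hs
    unfold nrm
    rw [hσ, hσ]
    linear_combination h7 s hs
  have hs := act_p3_dg c z h0
  rw [hn z h0] at hs
  have hz2 : z ^ 2 ≠ 1 := by
    intro h
    apply h1
    have : (z - 1) ^ 2 = 0 := by linear_combination h + (1 - z) * h20
    exact sub_eq_zero.1 (pow_eq_zero_iff (by norm_num) |>.1 this)
  have D : Dat c (1 : ↥(fx σ)) _ (1 / z ^ 2) :=
    { irr := by
        intro x hx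
        have hx' : x ^ 2 + 1 * x + 1 = 0 := hx
        have hx0 : x ≠ 0 := by
          intro h
          rw [h] at hx'
          simp at hx'
        have h3 : x ^ 3 = 1 := by linear_combination (x - 1) * hx'
        have e7 := h7 x hx0
        have e1 : x = 1 := by linear_combination e7 - (x ^ 4 + x) * h3
        rw [e1] at hx'
        exact one_ne_zero (α := K) (by linear_combination hx' - h20)
      nrm1 := hn
      act := hs
      ne1 := by
        intro h
        apply hz2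
        field_simp at h
        exact h.symm }
  exact ⟨⟨_, D.sr, fun g _ => main8 D hσ h8 g⟩⟩


end Cfsg.Agent.H538.Ore
end

-- part: H538/Ore/Small
section
set_option linter.all false
open scoped Cfsg.Agent.FastGrp

/-!
# Ore's property and four involutions: `Sz(q)`, `²G₂(q)`, `G₂(q)`, `³D₄(q)` (helper538)
-/

set_option autoImplicit false

namespace Cfsg.Agent.H538.Ore

open Cfsg.Agent.H777.Ore

universe u

theorem sr_of_inv {G : Type*} [Group G] {x y : G} (h1 : y * y = 1) (h2 : y * x = x⁻¹ * y) : SR x :=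
  ⟨y, h1, by rw [h2, mul_inv_cancel_right]⟩

/-- Suzuki groups -/
theorem th_sz {F : Type*} [Field F] [Fintype F] (m : ℕ) (hm : 1 ≤ m) (hF : Fintype.card F = 2 ^ (2 * m + 1)) :
    Th ↥(Cfsg.Lie.Sz F (2 ^ (m + 1))) := by
  have H := Cfsg.Agent.LieRecognition.SzMatrix.good hF
  have h8 : 2 ^ 3 ≤ Fintype.card F := by
    rw [hF]
    exact Nat.pow_le_pow_right (by norm_num) (by omega)
  obtain ⟨g, hg⟩ := IsCyclic.exists_generator (α := Fˣ)
  have ho := orderOf_eq_card_of_forall_mem_zpowers hg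
  rw [Nat.card_units, Nat.card_eq_fintype_card] at ho
  have hinj : Function.Injective (MonoidHom.mk' H.d (fun a b => (H.d_mul a b).symm)) := fun a b hab => H.d_inj hab
  have ho' := orderOf_injective _ hinj g
  refine ⟨⟨H.d g, sr_of_inv H.w_mul_w (by rw [H.w_mul_d, H.d_inv]), Cfsg.Agent.S2457.result m hm hF _ ?_⟩⟩
  rw [MonoidHom.mk'_apply] at ho'
  rw [ho', ho]
  omega

/-- small Ree groups -/
theorem th_ree {K : Type*} [Field K] [Fintype K] (m : ℕ) (hm : 1 ≤ m) (hK : Fintype.card K = 3 ^ (2 * m + 1)) :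
    Th ↥(Cfsg.Lie.twistedG2 K (3 ^ m)) := by
  have D := Cfsg.Agent.LieRecognition.ReeFinal.data hK
  have h27 : 3 ^ 3 ≤ Fintype.card K := by
    rw [hK]
    exact Nat.pow_le_pow_right (by norm_num) (by omega)
  have h3 : 3 ∣ Fintype.card K := by
    rw [hK, pow_succ]
    exact dvd_mul_left _ _
  obtain ⟨g, hg⟩ := IsCyclic.exists_generator (α := Kˣ)
  have ho := orderOf_eq_card_of_forall_mem_zpowers hg
  rw [Nat.card_units, Nat.card_eq_fintype_card] at ho
  let φ := MonoidHom.mk' (Cfsg.Agent.LieRecognition.ReeData.h hK) D.h_mul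
  have hinj : Function.Injective φ := fun a b hab => Cfsg.Agent.LieRecognition.ReeData.h_injective hK hab
  have ho' : orderOf (Cfsg.Agent.LieRecognition.ReeData.h hK g) = orderOf g := orderOf_injective φ hinj g
  refine ⟨⟨Cfsg.Agent.LieRecognition.ReeData.h hK g, sr_of_inv D.n_n ?_, Cfsg.Agent.S2458.result m hm hK _ ?_ ?_⟩⟩
  · rw [D.n_h]
    congr 1
    exact map_inv φ g
  · rw [ho', ho]
    omega
  · rw [ho', ho]
    omega

/-- `G₂(q)`, `q ≥ 3` -/
theorem th_g2 {F : Type u} [Field F] [Fintype F] (h3 : 3 ≤ Fintype.card F) : Th ↥(Cfsg.Lie.chevG2.group F) := by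
  by_cases h2 : (2 : F) = 0
  · have : CharP F 2 := CharTwo.of_one_ne_zero_of_two_eq_zero one_ne_zero h2
    by_cases h4 : Fintype.card F = 4
    · exact g2_four_th h4
    · refine g2_even_th ?_
      have := Cfsg.Agent.H148.Hex.two_dvd_card F
      omega
  · exact odd_th (Cfsg.Agent.H148.Hex.g2' F (Cfsg.Agent.H148.Hex.exists_ne h3)) h2

/-- `³D₄(q)` -/
theorem th_d4 {K : Type u} [Field K] [Fintype K] (q : ℕ) (hq : IsPrimePow q) (hK : Fintype.card K = q ^ 3) :
    Th ↥(Cfsg.Lie.twistedD4 K q) := by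
  by_cases h2 : (2 : K) = 0
  · have : CharP K 2 := CharTwo.of_one_ne_zero_of_two_eq_zero one_ne_zero h2
    by_cases h4 : q = 2
    · subst h4
      exact d4_two_th hK
    · refine d4_even_th hK ?_
      have := hq.one_lt
      omega
  · obtain ⟨σ, -, ⟨c⟩⟩ := Cfsg.Agent.Cit.HexD4.exists_d4 (K := K) (q := q) hK
    exact odd_th c h2

variable {G : Type*} [Group G]

theorem th_isoSuzuki (h : Cfsg.Lie.IsoSuzuki G) : Th G := by
  obtain ⟨F, _, _, m, hm, hF, ⟨e⟩⟩ := h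
  exact (th_sz m hm hF).congr e.symm

theorem th_isoRee (h : Cfsg.Lie.IsoRee G) : Th G := by
  obtain ⟨K, _, _, m, hm, hK, ⟨e⟩⟩ := h
  exact (th_ree m hm hK).congr e.symm

theorem th_isoChevG2 (h : Cfsg.Lie.IsoChevG2 G) : Th G := by
  obtain ⟨F, _, _, h3, ⟨e⟩⟩ := h
  exact (th_g2 h3).congr e.symm

theorem th_iso3D4 (h : Cfsg.Lie.Iso3D4 G) : Th G := by
  obtain ⟨K, _, _, q, hq, hK, ⟨e⟩⟩ := h
  exact (th_d4 q hq hK).congr e.symm

theorem ore_sz (h : Cfsg.Lie.IsoSuzuki G) : AllC G := (th_isoSuzuki h).allC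
theorem ore_ree (h : Cfsg.Lie.IsoRee G) : AllC G := (th_isoRee h).allC
theorem ore_g2 (h : Cfsg.Lie.IsoChevG2 G) : AllC G := (th_isoChevG2 h).allC
theorem ore_d4 (h : Cfsg.Lie.Iso3D4 G) : AllC G := (th_iso3D4 h).allC
theorem four_sz (h : Cfsg.Lie.IsoSuzuki G) : Inv4 G := (th_isoSuzuki h).inv4
theorem four_ree (h : Cfsg.Lie.IsoRee G) : Inv4 G := (th_isoRee h).inv4
theorem four_g2 (h : Cfsg.Lie.IsoChevG2 G) : Inv4 G := (th_isoChevG2 h).inv4
theorem four_d4 (h : Cfsg.Lie.Iso3D4 G) : Inv4 G := (th_iso3D4 h).inv4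

end Cfsg.Agent.H538.Ore
end
end
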